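import Mathlib.Algebra.Homology.Refinements
import Mathlib.Algebra.Homology.HomologicalComplex
import Mathlib.CategoryTheory.Preadditive.Injective.Basic
import Mathlib.CategoryTheory.Abelian.Basic

/-!
Extending maps of complexes into injective complexes.
-/

set_option autoImplicit false
set_option linter.style.haveILetI false

universe v u

open CategoryTheory CategoryTheory.Limits

namespace Groth.Agent.LadderLift

variable {V : Type u} [Category.{v} V] [Abelian V]

/-- A map killing the kernel extends to an injective object. -/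
theorem exists_fac {X Y E : V} [Injective E] (φ : X ⟶ Y) (ψ : X ⟶ E)
    (h : ∀ (W : V) (k : W ⟶ X), k ≫ φ = 0 → k ≫ ψ = 0) : ∃ e : Y ⟶ E, φ ≫ e = ψ := by
  refine ⟨Injective.factorThru (cokernel.desc (kernel.ι φ) ψ (h _ _ (kernel.condition φ)))
    (Abelian.factorThruCoimage φ), ?_⟩
  conv_lhs => arg 1; rw [← Abelian.coimage.fac φ]
  rw [Category.assoc, Injective.comp_factorThru]
  exact cokernel.π_desc _ _ _

variable {K A B J : CochainComplex V ℕ} (jK : K ⟶ A) (i : A ⟶ B)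

theorem exists_extend (mK : ∀ n, Mono (jK.f n)) (wK : ∀ n, jK.f n ≫ i.f n = 0)
    (exK : ∀ n (W : V) (a : W ⟶ A.X n), a ≫ i.f n = 0 →
      ∃ (W' : V) (π : W' ⟶ W) (_ : Epi π) (a' : W' ⟶ K.X n), π ≫ a = a' ≫ jK.f n)
    (hK : ∀ n, 0 < n → K.ExactAt n) (hA : ∀ n, 0 < n → A.ExactAt n) (hB : ∀ n, 0 < n → B.ExactAt n)
    (injJ : ∀ n, Injective (J.X n)) (fA : A ⟶ J) (hfK : jK ≫ fA = 0)
    (g : B.homology 0 ⟶ J.homology 0)
    (hg : HomologicalComplex.homologyMap i 0 ≫ g = HomologicalComplex.homologyMap fA 0) :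
    ∃ f : B ⟶ J, i ≫ f = fA ∧ HomologicalComplex.homologyMap f 0 = g := by
  have hlift : ∀ (L : CochainComplex V ℕ), (∀ n, 0 < n → L.ExactAt n) → ∀ n {W : V} (z : W ⟶ L.X (n + 1)),
      z ≫ L.d (n + 1) (n + 2) = 0 →
      ∃ (W' : V) (π : W' ⟶ W) (_ : Epi π) (y : W' ⟶ L.X n), π ≫ z = y ≫ L.d n (n + 1) := by
    intro L hL n W z hz
    exact (L.exactAt_iff_exact_up_to_refinements n (n + 1) (n + 2) (by simp) (by simp)).1
      (hL (n + 1) n.succ_pos) z hz
  have hfK' : ∀ n, jK.f n ≫ fA.f n = 0 := fun n => by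
    simpa using congrArg (fun φ => HomologicalComplex.Hom.f φ n) hfK
  -- lift an element of `A` whose image is a cocycle
  have hsplit : ∀ n {W : V} (a : W ⟶ A.X n), a ≫ i.f n ≫ B.d n (n + 1) = 0 →
      ∃ (W' : V) (π : W' ⟶ W) (_ : Epi π) (k : W' ⟶ K.X n), (π ≫ a - k ≫ jK.f n) ≫ A.d n (n + 1) = 0 := by
    intro n W a ha
    obtain ⟨W₁, π₁, _, a₁, h₁⟩ := exK (n + 1) W (a ≫ A.d n (n + 1)) (by
      rw [Category.assoc, ← i.comm n (n + 1)]; exact ha)
    have ha₁ : a₁ ≫ K.d (n + 1) (n + 2) = 0 := by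
      haveI := mK (n + 2)
      rw [← cancel_mono (jK.f (n + 2)), Category.assoc, ← jK.comm, ← Category.assoc, ← h₁, zero_comp]
      simp
    obtain ⟨W₂, π₂, _, k, h₂⟩ := hlift K hK n a₁ ha₁
    refine ⟨W₂, π₂ ≫ π₁, inferInstance, k, ?_⟩
    rw [Preadditive.sub_comp, Category.assoc k, jK.comm, ← Category.assoc k, ← h₂, Category.assoc π₂ a₁, ← h₁]
    simp
  let P : ∀ n, (B.X n ⟶ J.X n) → Prop := fun n f =>
    i.f n ≫ f = fA.f n ∧ ∀ (W : V) (z : W ⟶ B.X n), z ≫ B.d n (n + 1) = 0 → z ≫ f ≫ J.d n (n + 1) = 0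
  -- degree zero
  let zg : B.cycles 0 ⟶ J.X 0 := B.homologyπ 0 ≫ g ≫ (CochainComplex.isoHomologyπ₀ J).inv ≫ J.iCycles 0
  haveI := injJ 0
  obtain ⟨f₀, hf₀⟩ := exists_fac (biprod.desc (i.f 0) (B.iCycles 0)) (biprod.desc (fA.f 0) zg) (by
    intro W k hk
    obtain ⟨a, ha⟩ : ∃ a, k ≫ biprod.fst = a := ⟨_, rfl⟩
    obtain ⟨b, hb⟩ : ∃ b, k ≫ biprod.snd = b := ⟨_, rfl⟩
    have hk0 : a ≫ i.f 0 + b ≫ B.iCycles 0 = 0 := by
      rw [← ha, ← hb, ← hk, biprod.desc_eq, Preadditive.comp_add]; simp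
    rw [biprod.desc_eq, Preadditive.comp_add, ← Category.assoc, ← Category.assoc, ha, hb]
    have hcoc : a ≫ i.f 0 ≫ B.d 0 1 = 0 := by
      rw [← Category.assoc, eq_neg_of_add_eq_zero_left hk0]
      simp
    obtain ⟨W', π, _, k', hk'⟩ := hsplit 0 a hcoc
    rw [← cancel_epi π, comp_zero, Preadditive.comp_add]
    let c : W' ⟶ A.cycles 0 := A.liftCycles (π ≫ a - k' ≫ jK.f 0) 1 (by simp) hk'
    have hci : c ≫ HomologicalComplex.cyclesMap i 0 = -(π ≫ b) := by
      rw [← cancel_mono (B.iCycles 0), Category.assoc, HomologicalComplex.cyclesMap_i,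
        HomologicalComplex.liftCycles_i_assoc, Preadditive.sub_comp, Category.assoc, Category.assoc k',
        wK 0, comp_zero, sub_zero, eq_neg_of_add_eq_zero_left hk0]
      simp
    have h1 : HomologicalComplex.cyclesMap i 0 ≫ zg = A.iCycles 0 ≫ fA.f 0 := by
      rw [← HomologicalComplex.cyclesMap_i fA 0]
      simp only [zg]
      rw [← HomologicalComplex.homologyπ_naturality_assoc, reassoc_of% hg,
        CochainComplex.isoHomologyπ₀_inv_naturality_assoc]
      simp [CochainComplex.isoHomologyπ₀]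
    have h2 := congrArg (fun φ => c ≫ φ) h1
    simp only [← Category.assoc] at h2
    rw [hci, show c ≫ A.iCycles 0 = π ≫ a - k' ≫ jK.f 0 from HomologicalComplex.liftCycles_i _ _ _ _ _,
      Preadditive.sub_comp, Category.assoc k', hfK' 0, comp_zero, sub_zero, Preadditive.neg_comp] at h2
    simp only [← Category.assoc]
    rw [← h2, neg_add_cancel])
  have hf₀1 : i.f 0 ≫ f₀ = fA.f 0 := by simpa using congrArg (fun φ => biprod.inl ≫ φ) hf₀
  have hf₀2 : B.iCycles 0 ≫ f₀ = zg := by simpa using congrArg (fun φ => biprod.inr ≫ φ) hf₀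
  have hP₀ : P 0 f₀ := by
    refine ⟨hf₀1, fun W z hz => ?_⟩
    rw [← B.liftCycles_i z 1 (by simp) hz, Category.assoc, ← Category.assoc (B.iCycles 0), hf₀2]
    simp [zg]
  -- the step
  have step : ∀ n (f : B.X n ⟶ J.X n), P n f →
      ∃ f' : B.X (n + 1) ⟶ J.X (n + 1), P (n + 1) f' ∧ B.d n (n + 1) ≫ f' = f ≫ J.d n (n + 1) := by
    intro n f ⟨hf1, hf2⟩
    haveI := injJ (n + 1)
    obtain ⟨f', hf'⟩ := exists_fac (biprod.desc (i.f (n + 1)) (B.d n (n + 1)))
      (biprod.desc (fA.f (n + 1)) (f ≫ J.d n (n + 1))) (by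
      intro W k hk
      obtain ⟨a, ha⟩ : ∃ a, k ≫ biprod.fst = a := ⟨_, rfl⟩
      obtain ⟨b, hb⟩ : ∃ b, k ≫ biprod.snd = b := ⟨_, rfl⟩
      have hk0 : a ≫ i.f (n + 1) + b ≫ B.d n (n + 1) = 0 := by
        rw [← ha, ← hb, ← hk, biprod.desc_eq, Preadditive.comp_add]; simp
      rw [biprod.desc_eq, Preadditive.comp_add, ← Category.assoc, ← Category.assoc, ha, hb]
      have hcoc : a ≫ i.f (n + 1) ≫ B.d (n + 1) (n + 1 + 1) = 0 := by
        rw [← Category.assoc, eq_neg_of_add_eq_zero_left hk0]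
        simp
      obtain ⟨W', π, _, k', hk'⟩ := hsplit (n + 1) a hcoc
      obtain ⟨W'', π', _, c, hc⟩ := hlift A hA n (π ≫ a - k' ≫ jK.f (n + 1)) hk'
      rw [← cancel_epi (π' ≫ π), comp_zero, Preadditive.comp_add]
      have ha' : (π' ≫ π) ≫ a = c ≫ A.d n (n + 1) + π' ≫ k' ≫ jK.f (n + 1) := by
        rw [← hc, Preadditive.comp_sub, Category.assoc]; abel
      have hz : (c ≫ i.f n + (π' ≫ π) ≫ b) ≫ B.d n (n + 1) = 0 := by
        have h := congrArg (fun φ => (π' ≫ π) ≫ φ) hk0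
        simp only [Preadditive.comp_add, comp_zero, ← Category.assoc _ a, ha', Preadditive.add_comp,
          Category.assoc, wK, ← i.comm, comp_zero, add_zero] at h
        simpa [Preadditive.add_comp] using h
      have hz' := hf2 _ _ hz
      rw [← Category.assoc _ a, ha', Preadditive.add_comp, Category.assoc π', Category.assoc k', hfK' (n + 1),
        comp_zero, comp_zero, add_zero, Category.assoc c, ← fA.comm, ← hf1]
      simpa [Preadditive.add_comp] using hz')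
    have h1 : i.f (n + 1) ≫ f' = fA.f (n + 1) := by simpa using congrArg (fun φ => biprod.inl ≫ φ) hf'
    have h2 : B.d n (n + 1) ≫ f' = f ≫ J.d n (n + 1) := by simpa using congrArg (fun φ => biprod.inr ≫ φ) hf'
    refine ⟨f', ⟨h1, fun W z hz => ?_⟩, h2⟩
    obtain ⟨W', π, _, y, hy⟩ := hlift B hB n z hz
    rw [← cancel_epi π, comp_zero, ← Category.assoc π, hy, Category.assoc, ← Category.assoc (B.d n (n + 1)), h2]
    simp
  let F : ∀ n, {f : B.X n ⟶ J.X n // P n f} := fun n =>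
    Nat.rec (motive := fun n => {f : B.X n ⟶ J.X n // P n f}) ⟨f₀, hP₀⟩
      (fun n p => ⟨(step n p.1 p.2).choose, (step n p.1 p.2).choose_spec.1⟩) n
  refine ⟨{ f := fun n => (F n).1, comm' := ?_ }, ?_, ?_⟩
  · rintro n _ rfl
    exact ((step n (F n).1 (F n).2).choose_spec.2).symm
  · ext n
    exact (F n).2.1
  · rw [← cancel_epi (B.homologyπ 0), HomologicalComplex.homologyπ_naturality]
    rw [← cancel_mono (CochainComplex.isoHomologyπ₀ J).inv, ← cancel_mono (J.iCycles 0)]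
    simp only [Category.assoc]
    rw [show J.homologyπ 0 ≫ (CochainComplex.isoHomologyπ₀ J).inv ≫ J.iCycles 0 = J.iCycles 0 by
      simp [CochainComplex.isoHomologyπ₀], HomologicalComplex.cyclesMap_i]
    exact hf₀2

end Groth.Agent.LadderLift
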